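import Mathlib
import Groth.Prelude
import Groth.Agent.S0342
import Groth.Agent.S0343
import Groth.Agent.S0344
import Groth.Agent.H61.ObsDimMain
import Groth.Agent.H60.GorTransfer
import Groth.Agent.Lead.CompleteNoetherian

set_option autoImplicit false
universe u
open CategoryTheory CategoryTheory.Limits AlgebraicGeometry TensorProduct

namespace Groth.Agent.H14.NG

/-- `K[[x, y]]/(xy)` is a Gorenstein local ring (hypersurface in a regular local ring). -/
theorem gorenstein_node (K : Type u) [Field K] :
    LocCoh.IsGorensteinLocalRing (MvPowerSeries (Fin 2) K ⧸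
      Ideal.span {(MvPowerSeries.X 0 * MvPowerSeries.X 1 : MvPowerSeries (Fin 2) K)}) := by
  haveI hreg : IsRegularLocalRing (MvPowerSeries (Fin 2) K) :=
    Groth.Agent.H61.Obs.ps_isRegularLocalRing 2
  have hG : LocCoh.IsGorensteinLocalRing (MvPowerSeries (Fin 2) K) :=
    Groth.Agent.S0342.result _
  have hne : (MvPowerSeries.X 0 * MvPowerSeries.X 1 : MvPowerSeries (Fin 2) K) ≠ 0 := by
    apply mul_ne_zero <;> exact nonZeroDivisors.ne_zero MvPowerSeries.X_mem_nonzeroDivisors
  have hmem : (MvPowerSeries.X 0 * MvPowerSeries.X 1 : MvPowerSeries (Fin 2) K) ∈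
      IsLocalRing.maximalIdeal (MvPowerSeries (Fin 2) K) := by
    rw [IsLocalRing.mem_maximalIdeal, mem_nonunits_iff]
    intro hu
    have := (MvPowerSeries.isUnit_iff_constantCoeff).mp hu
    simp at this
  have hregf : IsSMulRegular (MvPowerSeries (Fin 2) K)
      (MvPowerSeries.X 0 * MvPowerSeries.X 1 : MvPowerSeries (Fin 2) K) :=
    (IsRegular.of_ne_zero hne).left.isSMulRegular
  exact (Groth.Agent.S0343.result _ _ hmem hregf).mp hG

/-- (P2) an ordinary double point is Gorenstein. -/
theorem gorenstein_of_isOrdDoublePt (K : Type u) [Field K] (A : Type u) [CommRing A]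
    [Algebra K A] [IsLocalRing A] [IsNoetherianRing A] (h : Curv2.IsOrdDoublePt K A) :
    LocCoh.IsGorensteinLocalRing A := by
  obtain ⟨e, -⟩ := h
  haveI : IsNoetherianRing (AdicCompletion (IsLocalRing.maximalIdeal A) A) :=
    Groth.Agent.Lead.isNoetherianRing_adicCompletion _
      (IsLocalRing.maximalIdeal A).fg_of_isNoetherianRing
  have hC : LocCoh.IsGorensteinLocalRing (AdicCompletion (IsLocalRing.maximalIdeal A) A) :=
    Groth.Agent.H60.GorTransfer.gor_of_ringEquiv e.symm (gorenstein_node K)
  exact ((Groth.Agent.S0344.result A (AdicCompletion (IsLocalRing.maximalIdeal A) A)).mp hC).1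

end Groth.Agent.H14.NG
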