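import Mathlib
import Groth.Prelude.Def_Pi1

set_option autoImplicit false
universe u
open CategoryTheory CategoryTheory.Limits AlgebraicGeometry

namespace Groth.Agent.H14.NG

/-- (SPL) For a specialization `x ⤳ x₀`, the map `stalk x₀ → stalk x` is the localization at
the preimage of the maximal ideal. -/
theorem isLocalization_stalkSpecializes {X : Scheme.{u}} {x x₀ : X} (h : x ⤳ x₀) :
    @IsLocalization.AtPrime _ _ (X.presheaf.stalk x) _
      (X.presheaf.stalkSpecializes h).hom.toAlgebra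
      ((IsLocalRing.maximalIdeal (X.presheaf.stalk x)).comap (X.presheaf.stalkSpecializes h).hom)
      (Ideal.comap_isPrime _ _) := by
  obtain ⟨_, ⟨U, hU : IsAffineOpen U, rfl⟩, hxU, -⟩ :=
    X.isBasis_affineOpens.exists_subset_of_mem_open (Set.mem_univ x₀) isOpen_univ
  have hxU' : x ∈ U := h.mem_open U.2 hxU
  let algx : Algebra Γ(X, U) (X.presheaf.stalk x₀) := X.presheaf.algebra_section_stalk ⟨x₀, hxU⟩
  have hloc : IsLocalization.AtPrime (X.presheaf.stalk x₀) (hU.primeIdealOf ⟨x₀, hxU⟩).asIdeal :=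
    hU.isLocalization_stalk ⟨x₀, hxU⟩
  let algx' : Algebra Γ(X, U) (X.presheaf.stalk x) :=
    X.presheaf.algebra_section_stalk ⟨x, hxU'⟩
  have hloc' : IsLocalization.AtPrime (X.presheaf.stalk x) (hU.primeIdealOf ⟨x, hxU'⟩).asIdeal :=
    hU.isLocalization_stalk ⟨x, hxU'⟩
  set σ := (X.presheaf.stalkSpecializes h).hom with hσ
  have hcomp : σ.comp (algebraMap Γ(X, U) (X.presheaf.stalk x₀)) =
      algebraMap Γ(X, U) (X.presheaf.stalk x) := by
    have h1 := TopCat.Presheaf.germ_stalkSpecializes X.presheaf hxU h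
    have h' := congrArg (fun f => f.hom) h1
    exact h'
  set q : Ideal (X.presheaf.stalk x₀) :=
    (IsLocalRing.maximalIdeal (X.presheaf.stalk x)).comap σ with hq
  haveI hqp : q.IsPrime := Ideal.comap_isPrime _ _
  set q₀ : Ideal Γ(X, U) := (hU.primeIdealOf ⟨x, hxU'⟩).asIdeal with hq₀
  have hq₀mem : ∀ a : Γ(X, U), a ∈ q₀ ↔ algebraMap Γ(X, U) (X.presheaf.stalk x₀) a ∈ q := by
    intro a
    rw [hq, Ideal.mem_comap, ← RingHom.comp_apply, hcomp]
    exact (IsLocalization.AtPrime.to_map_mem_maximal_iff (X.presheaf.stalk x) q₀ a).symm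
  have hle : q₀ ≤ (hU.primeIdealOf ⟨x₀, hxU⟩).asIdeal := by
    intro a ha
    have h1 : algebraMap Γ(X, U) (X.presheaf.stalk x₀) a ∈ q := (hq₀mem a).mp ha
    have h2 : algebraMap Γ(X, U) (X.presheaf.stalk x₀) a ∈
        IsLocalRing.maximalIdeal (X.presheaf.stalk x₀) :=
      IsLocalRing.le_maximalIdeal (Ideal.IsPrime.ne_top inferInstance) h1
    exact (IsLocalization.AtPrime.to_map_mem_maximal_iff (X.presheaf.stalk x₀)
      (hU.primeIdealOf ⟨x₀, hxU⟩).asIdeal a).mp h2
  letI algσ : Algebra (X.presheaf.stalk x₀) (X.presheaf.stalk x) := σ.toAlgebra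
  haveI : IsScalarTower Γ(X, U) (X.presheaf.stalk x₀) (X.presheaf.stalk x) :=
    IsScalarTower.of_algebraMap_eq (fun a => (RingHom.congr_fun hcomp a).symm)
  have hMN : (hU.primeIdealOf ⟨x₀, hxU⟩).asIdeal.primeCompl ≤ q₀.primeCompl := by
    intro a ha ha'
    exact ha (hle ha')
  haveI h1 : IsLocalization (q₀.primeCompl.map (algebraMap Γ(X, U) (X.presheaf.stalk x₀)))
      (X.presheaf.stalk x) :=
    IsLocalization.isLocalization_of_submonoid_le (X.presheaf.stalk x₀) (X.presheaf.stalk x)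
      (hU.primeIdealOf ⟨x₀, hxU⟩).asIdeal.primeCompl q₀.primeCompl hMN
  have hle2 : q₀.primeCompl.map (algebraMap Γ(X, U) (X.presheaf.stalk x₀)) ≤ q.primeCompl := by
    rintro _ ⟨a, ha, rfl⟩
    intro hmem
    exact ha ((hq₀mem a).mpr hmem)
  refine IsLocalization.isLocalization_of_is_exists_mul_mem (X.presheaf.stalk x)
    (q₀.primeCompl.map (algebraMap Γ(X, U) (X.presheaf.stalk x₀))) q.primeCompl hle2 ?_
  rintro ⟨z, hz⟩
  obtain ⟨⟨a, s⟩, e⟩ := IsLocalization.surj (hU.primeIdealOf ⟨x₀, hxU⟩).asIdeal.primeCompl z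
  refine ⟨algebraMap Γ(X, U) (X.presheaf.stalk x₀) s, a, ?_, ?_⟩
  · intro ha
    have h2 : algebraMap Γ(X, U) (X.presheaf.stalk x₀) a ∈ q := (hq₀mem a).mp ha
    rw [← e] at h2
    rcases Ideal.IsPrime.mem_or_mem inferInstance h2 with h3 | h3
    · exact hz h3
    · have hu : IsUnit (algebraMap Γ(X, U) (X.presheaf.stalk x₀) s) :=
        IsLocalization.map_units _ s
      exact Ideal.IsPrime.ne_top inferInstance (Ideal.eq_top_of_isUnit_mem _ h3 hu)
  · rw [← e, mul_comm]

end Groth.Agent.H14.NG
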