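import Mathlib
import Groth.Prelude
import Groth.Agent.H38.GeomRedPoints
import Groth.Agent.H60.GorBC
import Groth.Agent.H14.NN.G2ASM
import Groth.Agent.H14.NG.SPL
import Groth.Agent.H14.NG.P2
import Groth.Agent.H64.NG_JAC
import Groth.Agent.H64.NG_GORLOC
import Groth.Agent.H64.NG_P1
import Groth.Agent.H64.NG_CLSM

set_option autoImplicit false
universe u
open CategoryTheory CategoryTheory.Limits AlgebraicGeometry TensorProduct

namespace Groth.Agent.H14.NG

attribute [local instance] Curv2.stalkAlgebra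

/-- (CLNODE) -/
theorem closed_node (k : Type u) [Field k] (X : Scheme.{u})
    [X.Over (Spec (CommRingCat.of k))] [LocallyOfFiniteType (X ↘ Spec (CommRingCat.of k))]
    (x : X) (hnode : Curv2.IsNode k X x) :
    LocCoh.IsGorensteinLocalRing (X.presheaf.stalk x) ∧
      Algebra.IsGeometricallyReduced k (X.presheaf.stalk x) := by
  obtain ⟨-, xb, hxb, hodp⟩ := hnode
  letI : (Curv2.bc k X (AlgebraicClosure k)).Over (Spec (CommRingCat.of (AlgebraicClosure k))) :=
    ⟨Curv2.bcSnd k X (AlgebraicClosure k)⟩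
  letI := Curv2.stalkAlgebra (AlgebraicClosure k) (Curv2.bc k X (AlgebraicClosure k)) xb
  haveI : LocallyOfFiniteType (Curv2.bcSnd k X (AlgebraicClosure k)) :=
    Groth.Agent.H14.NN.lft_bcSnd k X (AlgebraicClosure k)
  haveI : IsLocallyNoetherian (Curv2.bc k X (AlgebraicClosure k)) :=
    LocallyOfFiniteType.isLocallyNoetherian (Curv2.bcSnd k X (AlgebraicClosure k))
  haveI : IsNoetherianRing ((Curv2.bc k X (AlgebraicClosure k)).presheaf.stalk xb) :=
    inferInstance
  haveI : IsLocallyNoetherian X :=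
    LocallyOfFiniteType.isLocallyNoetherian (X ↘ Spec (CommRingCat.of k))
  haveI : IsNoetherianRing (X.presheaf.stalk x) := inferInstance
  have hred_b := Groth.Agent.H20.NN_ODP.isReduced_of_isOrdDoublePt (AlgebraicClosure k) _ hodp
  have hgor_b := gorenstein_of_isOrdDoublePt (AlgebraicClosure k) _ hodp
  obtain ⟨Q, hQp, hQ, ⟨e⟩⟩ := Groth.Agent.H25.StalkBC.exists_prime_ringEquiv_stalk_bc k X
    (AlgebraicClosure k) xb x hxb
  haveI := hQp
  have hgorQ : LocCoh.IsGorensteinLocalRing (Localization.AtPrime Q) :=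
    Groth.Agent.H60.GorTransfer.gor_of_ringEquiv e.symm hgor_b
  have hredQ : IsReduced (Localization.AtPrime Q) :=
    isReduced_of_injective e.toRingHom e.injective
  have hess : Algebra.EssFiniteType k (X.presheaf.stalk x) :=
    Groth.Agent.H60.GorBC.essFiniteType_stalkAlgebra (X ↘ Spec (CommRingCat.of k)) x
  exact ⟨(Groth.Agent.H60.GorBC.gor_loc_tensor_iff k (AlgebraicClosure k) (X.presheaf.stalk x)
      (Or.inr hess) Q hQ).mp hgorQ,
    Groth.Agent.H64.NG_P1.isGeometricallyReduced_of_localization_reduced k (X.presheaf.stalk x) (AlgebraicClosure k)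
      Q hQ hredQ⟩

theorem main (k : Type u) [Field k] (X : Scheme.{u}) [X.Over (Spec (CommRingCat.of k))]
    [LocallyOfFiniteType (X ↘ (Spec (CommRingCat.of k)))]
    (hX : Curv2.AtWorstNodal k X) :
    (∀ x : X, LocCoh.IsGorensteinLocalRing (X.presheaf.stalk x)) ∧
      GeometricallyReduced (X ↘ (Spec (CommRingCat.of k))) := by
  have key : ∀ x : X, LocCoh.IsGorensteinLocalRing (X.presheaf.stalk x) ∧
      Algebra.IsGeometricallyReduced k (X.presheaf.stalk x) := by
    intro x
    obtain ⟨x₀, hx₀, hsp⟩ := Groth.Agent.H64.NG_JAC.exists_closed_specialization k X x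
    have h0 : LocCoh.IsGorensteinLocalRing (X.presheaf.stalk x₀) ∧
        Algebra.IsGeometricallyReduced k (X.presheaf.stalk x₀) := by
      rcases hX x₀ hx₀ with ⟨U, hxU, hsm⟩ | hnode
      · exact Groth.Agent.H64.NG_CLSM.closed_smooth k X x₀ U hxU hsm
      · exact closed_node k X x₀ hnode
    obtain ⟨hg, hr⟩ := h0
    letI algσ : Algebra (X.presheaf.stalk x₀) (X.presheaf.stalk x) :=
      (X.presheaf.stalkSpecializes hsp).hom.toAlgebra
    haveI hprime : ((IsLocalRing.maximalIdeal (X.presheaf.stalk x)).comap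
        (X.presheaf.stalkSpecializes hsp).hom).IsPrime := Ideal.comap_isPrime _ _
    haveI hloc : IsLocalization.AtPrime (X.presheaf.stalk x)
        ((IsLocalRing.maximalIdeal (X.presheaf.stalk x)).comap
          (X.presheaf.stalkSpecializes hsp).hom) := isLocalization_stalkSpecializes hsp
    refine ⟨Groth.Agent.H64.NG_GORLOC.gorenstein_of_isLocalization _ hg
      ((IsLocalRing.maximalIdeal (X.presheaf.stalk x)).comap
        (X.presheaf.stalkSpecializes hsp).hom) (X.presheaf.stalk x), ?_⟩
    haveI : IsScalarTower k (X.presheaf.stalk x₀) (X.presheaf.stalk x) :=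
      IsScalarTower.of_algebraMap_eq (fun c =>
        (TopCat.Presheaf.germ_stalkSpecializes_apply X.presheaf (U := ⊤) (y := x₀) trivial hsp
          (Coh.toGlobal (X ↘ Spec (CommRingCat.of k)) c)).symm)
    haveI := hr
    exact Groth.Agent.H38.GenSmooth.isGeometricallyReduced_localization
      ((IsLocalRing.maximalIdeal (X.presheaf.stalk x)).comap
        (X.presheaf.stalkSpecializes hsp).hom).primeCompl (X.presheaf.stalk x)
  exact ⟨fun x => (key x).1,
    Groth.Agent.H38.GeomRedPoints.geometricallyReduced_of_stalks k X (fun x => (key x).2)⟩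

end Groth.Agent.H14.NG
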